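import Groth.Agent.H56.AmpNhd.Nhd
import Groth.Agent.Lib.BettiExact.TorPush
import Groth.Agent.H56.RelPC.BaseChange

/-!
Perfect amplitude relative to a morphism locally of finite type near a point.
-/

set_option autoImplicit false
set_option linter.style.haveILetI false

universe u

open CategoryTheory CategoryTheory.Limits AlgebraicGeometry CategoryTheory.Pretriangulated

attribute [local instance] HasDerivedCategory.standard

namespace Groth.Agent.H56.AmpNhd

open Groth.Agent.Lib Groth.Agent.Lib.DerivedOX Groth.Agent.Lib.Modules.StalkModule KFlatBaseChange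
open Groth.Agent.Lib.BettiExact TorTensor TorPull
open Groth.Agent.Lib.Perfect.Basic Groth.Agent.Lib.Perfect.PseudoCoh Groth.Agent.Lib.Perfect.Ascent
open Groth.Agent.Lib.DR.Basic Groth.Agent.Lib.DR.FiniteComplex Groth.Agent.Lib.DR.PseudoCoherent
open Groth.Agent.Lib.DR.BaseChange
open RelPC

variable {X U Z Y : Scheme.{u}}

/-- Shrinking the upper bound of the tor amplitude. -/
theorem bdd_flat_trim {A : Type u} [CommRing A] {K : Dual.D A} {a b c : ℤ} (hK : K.IsLE b)
    (h : Bdd (flat A) a c K) : Bdd (flat A) a b K := by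
  obtain ⟨G, hG, hGp, ⟨e⟩⟩ := DR.Representative.ba_free hK
  exact (DR.TorAmp.bdd_flat_of_isGE_tens G hG (fun i => flat_of_free _ (hGp i))
    (isGE_of_iso' e.symm h.isGE) fun M =>
      DR.TorAmp.isGE_tens_of_bdd M G hG (fun i => flat_of_free _ (hGp i)) (h.of_iso e.symm)).of_iso e

set_option backward.isDefEq.respectTransparency false in
/-- Tor amplitude at a point through an open immersion. -/
theorem torAmpAt_of_openImm (f : Z ⟶ Y) (j : U ⟶ Z) [IsOpenImmersion j]
    (F : CochainComplex Z.Modules ℤ) {a b : ℤ}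
    (x : U) (hF : DerSch.HasTorAmplitudeAt (j ≫ f) a b ((rC j).obj F) x) :
    DerSch.HasTorAmplitudeAt f a b F (j x) := by
  let e := TorRestrict.stalkOverRestrictIso f (j ≫ f) j x
    (RingHom.id (Y.presheaf.stalk ((j ≫ f) x))) (by
      refine Eq.trans ?_ (RingHom.comp_id _).symm
      exact congrArg (fun t => CommRingCat.Hom.hom t) (Scheme.Hom.stalkMap_comp j f x))
  let e' : Scheme.Modules.restrictFunctor j ⋙ DerSch.stalkOver (j ≫ f) x ≅
      DerSch.stalkOver f (j x) :=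
    e ≪≫ Functor.isoWhiskerLeft (DerSch.stalkOver f (j x)) (ModuleCat.restrictScalarsId _) ≪≫
      Functor.rightUnitor _
  haveI : (DerSch.stalkFunctor Z (j x)).Additive := DerSch.additive_stalkFunctor _
  haveI : (DerSch.stalkOver f (j x)).Additive :=
    inferInstanceAs (DerSch.stalkFunctor Z (j x) ⋙ ModuleCat.restrictScalars (f.stalkMap (j x)).hom).Additive
  exact Bdd.of_iso (show Bdd (flat _) a b _ from hF) (DerivedCategory.Q.mapIso
    ((NatIso.mapHomologicalComplex e' (ComplexShape.up ℤ)).app F))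

/-- Tor amplitude at a point only sees cohomology up to the bound. -/
theorem torAmpAt_trim (f : Z ⟶ Y) (F : CochainComplex Z.Modules ℤ) {a b c : ℤ}
    (hle : (DerivedCategory.Q.obj F).IsLE b) (x : Z) (h : DerSch.HasTorAmplitudeAt f a c F x) :
    DerSch.HasTorAmplitudeAt f a b F x := by
  haveI : PreservesFiniteColimits (stalkModFunctor Z x) :=
    PreservesColimitsOfSize.preservesFiniteColimits _
  exact (torAmpAt_iff f x F a b).2 (bdd_flat_trim
    (isLE_of_iso' (DR.ExactPush.mapQ (resF (f.stalkMap x).hom) _) (DR.ExactPush.isLE_map _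
      (isLE_of_iso' (DR.ExactPush.mapQ (stalkModFunctor Z x) F) (DR.ExactPush.isLE_map _ hle))))
    ((torAmpAt_iff f x F a c).1 h))

/-- Perfect amplitude near a point, in the flat situation. -/
theorem exists_nhd (g : Z ⟶ Y) [Flat g] [LocallyOfFinitePresentation g] (G : CochainComplex Z.Modules ℤ)
    {a b : ℤ} {z : Z} (hpc : PCAt (a - 1) (DerivedCategory.Q.obj G) z)
    (hge : (DerivedCategory.Q.obj G).IsGE a) (hle : (DerivedCategory.Q.obj G).IsLE b)
    (hz : DerSch.HasTorAmplitudeAt g a b G z) :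
    ∃ W : Z.Opens, z ∈ W ∧ (∀ (m : ℤ), ∀ w ∈ W, PCAt m (DerivedCategory.Q.obj G) w) ∧
      ∀ w ∈ W, DerSch.HasTorAmplitudeAt g a b G w := by
  obtain ⟨U, j, _, y, E, α, rfl, hE, hα⟩ := exists_approx hpc
  have hH : DerSch.HasTorAmplitudeAt (j ≫ g) a b ((rC j).obj G) y :=
    TorRestrict.torAmpAt_restrict g (j ≫ g) j (𝟙 Y) (Category.comp_id _).symm G y hz
  obtain ⟨W, c, hyW, hpcT, hampT⟩ := exists_nhd_of_flat (j ≫ g) hE a
    (isFlatOverAt_opcycles (j ≫ g) hE α hα y hH)
  obtain ⟨eT⟩ := exists_iso_truncGE α a (fun i hi => hα.isIso_map i (by lia))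
    (isGE_of_iso' (RDQ j G) (DR.ExactPush.isGE_map (Scheme.Modules.restrictFunctor j) hge))
  let e : DerivedCategory.Q.obj ((rC W.ι).obj (E.truncGE a)) ≅
      DerivedCategory.Q.obj ((rC W.ι).obj ((rC j).obj G)) :=
    (RDQ W.ι _).symm ≪≫ (RD W.ι).mapIso eT ≪≫ RDQ W.ι _
  refine ⟨j ''ᵁ W, ⟨y, hyW, rfl⟩, fun m => ?_, ?_⟩
  · rintro _ ⟨w, hw, rfl⟩
    refine PCAt.of_restrict (j := W.ι ≫ j) (y := (⟨w, hw⟩ : (W : Scheme.{u}))) rfl ?_
    exact ((iff_forall m _).1 (hpcT m) _).of_iso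
      (e ≪≫ DerivedCategory.Q.mapIso ((rCComp W.ι j).app G).symm ≪≫ (RDQ (W.ι ≫ j) G).symm)
  · rintro _ ⟨w, hw, rfl⟩
    refine torAmpAt_trim g G (c := c) hle _ ?_
    exact torAmpAt_of_openImm g j G (W.ι (⟨w, hw⟩ : (W : Scheme.{u})))
      (torAmpAt_of_openImm (j ≫ g) W.ι ((rC j).obj G) _ (torAmpAt_of_iso _ _ e (hampT _)))

/-- Stalks over the base of a closed direct image. -/
theorem torAmpAt_push_iff (i : X ⟶ Z) [IsClosedImmersion i] (g : Z ⟶ Y)
    (F : CochainComplex X.Modules ℤ) (x : X) (a b : ℤ) :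
    DerSch.HasTorAmplitudeAt g a b ((DerSch.pushCx i).obj F) (i x) ↔
      DerSch.HasTorAmplitudeAt (i ≫ g) a b F x := by
  let e : (resC (g.stalkMap (i x)).hom).obj ((stC (i x)).obj ((DerSch.pushCx i).obj F)) ≅
      (resC ((i ≫ g).stalkMap x).hom).obj ((stC x).obj F) :=
    (resC (g.stalkMap (i x)).hom).mapIso
        ((NatIso.mapHomologicalComplex (TorPush.pushStalkIso i x) (ComplexShape.up ℤ)).app F) ≪≫
      stOverCompIso i g x F
  exact (torAmpAt_iff g (i x) _ a b).trans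
    (Iff.trans ⟨fun h => Bdd.of_iso h (DerivedCategory.Q.mapIso e),
      fun h => Bdd.of_iso h (DerivedCategory.Q.mapIso e).symm⟩ (torAmpAt_iff (i ≫ g) x F a b).symm)

/-- A factorization through affine space near a point. -/
theorem exists_factor (f : X ⟶ Y) [LocallyOfFiniteType f] (x : X) (U₀ : X.Opens) (hx : x ∈ U₀) :
    ∃ (V : X.Opens) (Z : Scheme.{u}) (i : (V : Scheme.{u}) ⟶ Z) (g : Z ⟶ Y),
      x ∈ V ∧ V ≤ U₀ ∧ IsClosedImmersion i ∧ Flat g ∧ LocallyOfFinitePresentation g ∧ i ≫ g = V.ι ≫ f := by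
  obtain ⟨W, hW, hxW, -⟩ := exists_isAffineOpen_mem_and_subset (X := Y) (x := f x) (U := ⊤) trivial
  obtain ⟨V, hV, hxV, hle⟩ := exists_isAffineOpen_mem_and_subset (X := X) (x := x) (U := f ⁻¹ᵁ W ⊓ U₀)
    ⟨hxW, hx⟩
  have h : V ≤ f ⁻¹ᵁ W := fun z hz => (hle hz).1
  have hft : (f.appLE W V h).hom.FiniteType := LocallyOfFiniteType.finiteType_appLE f hW hV h
  algebraize [(f.appLE W V h).hom]
  obtain ⟨n, φ, hφ⟩ := Algebra.FiniteType.iff_quotient_mvPolynomial''.1 ‹_›
  have hC : CommRingCat.ofHom MvPolynomial.C ≫ CommRingCat.ofHom φ.toRingHom = f.appLE W V h :=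
    CommRingCat.hom_ext (RingHom.ext fun r => φ.commutes r)
  haveI : Flat (Spec.map (CommRingCat.ofHom (MvPolynomial.C : Γ(Y, W) →+* MvPolynomial (Fin n) Γ(Y, W)))) := by
    rw [HasRingHomProperty.Spec_iff (P := @Flat)]
    exact (RingHom.flat_algebraMap_iff (R := Γ(Y, W)) (S := MvPolynomial (Fin n) Γ(Y, W))).2 inferInstance
  haveI : LocallyOfFinitePresentation
      (Spec.map (CommRingCat.ofHom (MvPolynomial.C : Γ(Y, W) →+* MvPolynomial (Fin n) Γ(Y, W)))) := by
    rw [HasRingHomProperty.Spec_iff (P := @LocallyOfFinitePresentation)]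
    exact (RingHom.finitePresentation_algebraMap (A := Γ(Y, W)) (B := MvPolynomial (Fin n) Γ(Y, W))).2 inferInstance
  refine ⟨V, _, imm V φ.toRingHom,
    Spec.map (CommRingCat.ofHom (MvPolynomial.C : Γ(Y, W) →+* MvPolynomial (Fin n) Γ(Y, W))) ≫ hW.fromSpec,
    hxV, fun z hz => (hle hz).2, isClosedImmersion_imm hV hφ, inferInstance, inferInstance, ?_⟩
  rw [imm, Category.assoc, ← Spec.map_comp_assoc, hC, hW.SpecMap_appLE_fromSpec f hV h,
    ← hV.isoSpec_hom, hV.isoSpec_hom_fromSpec_assoc]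

end Groth.Agent.H56.AmpNhd
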