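import Groth.Agent.H56.AmpNhd.Rel
import Groth.Agent.H56.RelPC.Bridge
import Groth.Agent.Lib.DR.BaseChangeU
import Groth.Agent.Lib.Flat55.FibrewiseScheme

/-!
Relative perfect amplitude from the base and from the fibre.
-/

set_option autoImplicit false
set_option linter.style.haveILetI false

universe u

open CategoryTheory CategoryTheory.Limits AlgebraicGeometry CategoryTheory.Pretriangulated

attribute [local instance] HasDerivedCategory.standard

namespace Groth.Agent.H56.AmpNhd

open Groth.Agent.Lib Groth.Agent.Lib.DerivedOX Groth.Agent.Lib.Modules.StalkModule KFlatBaseChange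
open Groth.Agent.Lib.BettiExact TorTensor TorPull
open Groth.Agent.Lib.Perfect.Basic Groth.Agent.Lib.Perfect.PseudoCoh
open Groth.Agent.Lib.DR.Basic Groth.Agent.Lib.DR.FiniteComplex Groth.Agent.Lib.DR.PseudoCoherent
open RelPC

variable {X U Z Y S : Scheme.{u}}

/-- Tor amplitude over the base composes with a flat morphism. -/
theorem torAmpAt_comp_flat (f : X ⟶ Y) (g : Y ⟶ S) [Flat g] (F : CochainComplex X.Modules ℤ) (x : X)
    {a b : ℤ} (h : DerSch.HasTorAmplitudeAt f a b F x) : DerSch.HasTorAmplitudeAt (f ≫ g) a b F x := by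
  exact (torAmpAt_iff (f ≫ g) x F a b).2 (Bdd.of_iso
    (DR.ExactPush.bdd_map (P' := flat (S.presheaf.stalk (g (f x)))) (resF (g.stalkMap (f x)).hom)
      (fun M hM => TorPush.flat_res_of_flat _ (Flat.stalkMap g (f x)) M hM) ((torAmpAt_iff f x F a b).1 h))
    (DR.ExactPush.mapQ (resF (g.stalkMap (f x)).hom) _ ≪≫ DerivedCategory.Q.mapIso (stOverCompIso f g x F)))

/-- The ideal of the fibre. -/
noncomputable abbrev fibI (g : Y ⟶ S) (y : Y) : Ideal (Y.presheaf.stalk y) :=
  Ideal.map (g.stalkMap y).hom (IsLocalRing.maximalIdeal (S.presheaf.stalk (g y)))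

/-- Tor amplitude of the derived reduction to the fibre. -/
def FibAmp (g : Y ⟶ S) (f : X ⟶ Y) (a b : ℤ) (F : CochainComplex X.Modules ℤ) (x : X) : Prop :=
  haveI := DR.BaseChangeU.hasLBaseChange (Ideal.Quotient.mk (fibI g (f x)))
  Bdd (flat ((Y.presheaf.stalk (f x)) ⧸ fibI g (f x))) a b
    ((DRing.LBaseChange (Ideal.Quotient.mk (fibI g (f x)))).obj (DRing.toD ((DerSch.stalkCxOver f x).obj F)))

set_option backward.isDefEq.respectTransparency false in
theorem fibAmp_restrict (g : Y ⟶ S) (f : Z ⟶ Y) (j : U ⟶ Z) [IsOpenImmersion j]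
    (F : CochainComplex Z.Modules ℤ) {a b : ℤ} (x : U) (h : FibAmp g f a b F (j x)) :
    FibAmp g (j ≫ f) a b ((rC j).obj F) x := by
  let e := TorRestrict.stalkOverRestrictIso f (j ≫ f) j x
    (RingHom.id (Y.presheaf.stalk ((j ≫ f) x))) (by
      refine Eq.trans ?_ (RingHom.comp_id _).symm
      exact congrArg (fun t => CommRingCat.Hom.hom t) (Scheme.Hom.stalkMap_comp j f x))
  let e' : Scheme.Modules.restrictFunctor j ⋙ DerSch.stalkOver (j ≫ f) x ≅
      DerSch.stalkOver f (j x) :=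
    e ≪≫ Functor.isoWhiskerLeft (DerSch.stalkOver f (j x)) (ModuleCat.restrictScalarsId _) ≪≫
      Functor.rightUnitor _
  haveI : (DerSch.stalkFunctor Z (j x)).Additive := DerSch.additive_stalkFunctor _
  haveI : (DerSch.stalkOver f (j x)).Additive :=
    inferInstanceAs (DerSch.stalkFunctor Z (j x) ⋙ ModuleCat.restrictScalars (f.stalkMap (j x)).hom).Additive
  haveI := DR.BaseChangeU.hasLBaseChange (Ideal.Quotient.mk (fibI g ((j ≫ f) x)))
  exact Bdd.of_iso h ((DRing.LBaseChange (Ideal.Quotient.mk (fibI g ((j ≫ f) x)))).mapIso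
    (DerivedCategory.Q.mapIso
      ((NatIso.mapHomologicalComplex e' (ComplexShape.up ℤ)).app F).symm))

theorem fibAmp_push (g : Y ⟶ S) (i : X ⟶ Z) [IsClosedImmersion i] (p : Z ⟶ Y)
    (F : CochainComplex X.Modules ℤ) {a b : ℤ} (x : X) (h : FibAmp g (i ≫ p) a b F x) :
    FibAmp g p a b ((DerSch.pushCx i).obj F) (i x) := by
  let e : (DerSch.stalkCxOver p (i x)).obj ((DerSch.pushCx i).obj F) ≅
      (DerSch.stalkCxOver (i ≫ p) x).obj F :=
    (stOverIso p (i x) _).symm ≪≫ (resC (p.stalkMap (i x)).hom).mapIso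
        ((NatIso.mapHomologicalComplex (TorPush.pushStalkIso i x) (ComplexShape.up ℤ)).app F) ≪≫
      stOverCompIso i p x F ≪≫ stOverIso (i ≫ p) x F
  haveI := DR.BaseChangeU.hasLBaseChange (Ideal.Quotient.mk (fibI g (p (i x))))
  exact Bdd.of_iso h ((DRing.LBaseChange (Ideal.Quotient.mk (fibI g (p (i x))))).mapIso
    (DerivedCategory.Q.mapIso e.symm))

/-- Flatness modulo an ideal along an isomorphism. -/
theorem flat_quot_of_iso {A : Type u} [CommRing A] (I : Ideal A) {M N : ModuleCat.{u} A} (e : M ≅ N)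
    (h : Module.Flat (A ⧸ I) (M ⧸ I • (⊤ : Submodule A M))) :
    Module.Flat (A ⧸ I) (N ⧸ I • (⊤ : Submodule A N)) := by
  haveI := h
  let e' : (M ⧸ I • (⊤ : Submodule A M)) ≃ₗ[A] (N ⧸ I • (⊤ : Submodule A N)) :=
    Submodule.Quotient.equiv _ _ e.toLinearEquiv (by
      rw [Submodule.map_smul'']
      exact congrArg _ ((Submodule.map_top _).trans (LinearMap.range_eq_top.2 e.toLinearEquiv.surjective)))
  exact Module.Flat.of_linearEquiv (e'.extendScalarsOfSurjective Ideal.Quotient.mk_surjective).symm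

/-- The cokernel in degree `a` of an approximation is flat in the fibre. -/
theorem flat_quot_opcycles (g : Y ⟶ S) (h : U ⟶ Y) [Flat h] {E H : CochainComplex U.Modules ℤ}
    (hE : DCoh.IsStrictlyPerfect E) {a b : ℤ} (α : DerivedCategory.Q.obj E ⟶ DerivedCategory.Q.obj H)
    (hα : ConeLE α (a - 2)) (y : U) (hH : FibAmp g h a b H y) :
    letI := FlatMod.moduleStalkOver h (E.opcycles a) y
    Module.Flat ((Y.presheaf.stalk (h y)) ⧸ fibI g (h y))
      ((E.opcycles a).presheaf.stalk y ⧸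
        fibI g (h y) • (⊤ : Submodule (Y.presheaf.stalk (h y)) ((E.opcycles a).presheaf.stalk y))) := by
  let F := stalkModFunctor U y ⋙ resF (h.stalkMap y).hom
  haveI : PreservesFiniteColimits (stalkModFunctor U y) :=
    PreservesColimitsOfSize.preservesFiniteColimits _
  haveI : PreservesFiniteLimits F := comp_preservesFiniteLimits _ _
  haveI : PreservesFiniteColimits F := comp_preservesFiniteColimits _ _
  haveI := DR.BaseChangeU.hasLBaseChange (Ideal.Quotient.mk (fibI g (h y)))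
  let P := (resC (h.stalkMap y).hom).obj ((stC y).obj E)
  let Q := (resC (h.stalkMap y).hom).obj ((stC y).obj H)
  let r := resF (h.stalkMap y).hom
  let q₁ := (DR.ExactPush.mapQ (stalkModFunctor U y) E).symm
  let q₂ := DR.ExactPush.mapQ (stalkModFunctor U y) H
  let r₁ := (DR.ExactPush.mapQ r ((stC y).obj E)).symm
  let r₂ := DR.ExactPush.mapQ r ((stC y).obj H)
  let f : DerivedCategory.Q.obj P ⟶ DerivedCategory.Q.obj Q :=
    r₁.hom ≫ r.mapDerivedCategory.map (q₁.hom ≫ (stalkModFunctor U y).mapDerivedCategory.map α ≫ q₂.hom) ≫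
      r₂.hom
  have hf : ConeLE f (a - 2) := ConeLE.iso_comp ((DR.ExactPush.coneLE_map r
    (ConeLE.iso_comp ((DR.ExactPush.coneLE_map (stalkModFunctor U y) hα).comp_iso q₂) q₁)).comp_iso r₂) r₁
  obtain ⟨l, u, hlu⟩ := hE.1
  let op : P.opcycles a ≅ F.obj (E.opcycles a) := (E.sc a).mapOpcyclesIso F
  exact flat_quot_of_iso (fibI g (h y))
    (DR.TorAmp.opcyclesIso P a ≪≫ op ≪≫ (RelTor.overIso h y).app (E.opcycles a))
    (flat_quot_coker_of_coneLE P f (a := a) (b := b) (c := u)
      (fun i hi => (resF _).map_isZero ((stalkModFunctor U y).map_isZero (hlu i (Or.inr hi))))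
      (fun i => (RelTor.isFlatOverAt_iff_res h _ y).1 (isFlatOver_term h hE i y)) hf (fibI g (h y))
      (Bdd.of_iso hH ((DRing.LBaseChange (Ideal.Quotient.mk (fibI g (h y)))).mapIso
        (DerivedCategory.Q.mapIso (stOverIso h y H)).symm)))

/-- Tor amplitude over the base from the composite and the fibre, in the flat situation. -/
theorem torAmpAt_of_fibre (p : Z ⟶ Y) [Flat p] [LocallyOfFinitePresentation p] (g : Y ⟶ S) [Flat g]
    [LocallyOfFinitePresentation g] (G : CochainComplex Z.Modules ℤ) {a b : ℤ} (z : Z)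
    (hpc : PCAt (a - 1) (DerivedCategory.Q.obj G) z) (hge : (DerivedCategory.Q.obj G).IsGE a)
    (hle : (DerivedCategory.Q.obj G).IsLE b)
    (hS : DerSch.HasTorAmplitudeAt (p ≫ g) a b G z) (hfib : FibAmp g p a b G z) :
    DerSch.HasTorAmplitudeAt p a b G z := by
  obtain ⟨U, j, _, y, E, α, rfl, hE, hα⟩ := exists_approx hpc
  let h := j ≫ p
  have hHS : DerSch.HasTorAmplitudeAt (h ≫ g) a b ((rC j).obj G) y :=
    TorRestrict.torAmpAt_restrict (p ≫ g) (h ≫ g) j (𝟙 S) (by simp [h]) G y hS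
  have h1 : FlatMod.IsFlatOverAt (h ≫ g) (E.opcycles a) y :=
    isFlatOverAt_opcycles (h ≫ g) hE α hα y hHS
  haveI := (isFP_opcycles hE a : SheafOfModules.IsFinitePresentation (R := U.ringCatSheaf) (E.opcycles a))
  haveI : (E.opcycles a).IsQuasicoherent := by
    haveI : ∀ i, (E.X i).IsQuasicoherent := fun i => Modules.AffineSections.isQCoh_of_isFinLocFree (hE.2 i)
    exact (SheafOfModules.isQuasicoherent U.ringCatSheaf).prop_of_iso
      (IsColimit.coconePointUniqueUpToIso (cokernelIsCokernel _)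
        (E.opcyclesIsCokernel (a - 1) a (by simp))) (QCoh.Closure.isQCoh_cokernel _)
  have h2 := flat_quot_opcycles g h hE α hα y (fibAmp_restrict g p j G y hfib)
  obtain ⟨W, c, hyW, -, hampT⟩ := exists_nhd_of_flat h hE a
    (Lib.Flat55.FibrewiseScheme.flat_at_of_fibre h g (E.opcycles a) y h1 h2).1
  obtain ⟨eT⟩ := exists_iso_truncGE α a (fun i hi => hα.isIso_map i (by lia))
    (isGE_of_iso' (RDQ j G) (DR.ExactPush.isGE_map (Scheme.Modules.restrictFunctor j) hge))
  let e : DerivedCategory.Q.obj ((rC W.ι).obj (E.truncGE a)) ≅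
      DerivedCategory.Q.obj ((rC W.ι).obj ((rC j).obj G)) :=
    (RDQ W.ι _).symm ≪≫ (RD W.ι).mapIso eT ≪≫ RDQ W.ι _
  refine torAmpAt_trim p G (c := c) hle _ ?_
  exact torAmpAt_of_openImm p j G y (torAmpAt_of_openImm h W.ι ((rC j).obj G) ⟨y, hyW⟩
    (torAmpAt_of_iso _ _ e (hampT _)))

/-- Relative perfect amplitude over an intermediate flat base from the composite and the fibre. -/
theorem exists_nhd_of_fibre (f : X ⟶ Y) [LocallyOfFiniteType f] (g : Y ⟶ S) [Flat g]
    [LocallyOfFinitePresentation g] (F : CochainComplex X.Modules ℤ) (a b : ℤ) (x : X) (U : X.Opens)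
    (hxU : x ∈ U) (hP : DerSch.HasPerfAmplitudeRel (U.ι ≫ f ≫ g) a b ((rC U.ι).obj F))
    (hfib : FibAmp g f a b F x) :
    ∃ U : X.Opens, x ∈ U ∧ DerSch.HasPerfAmplitudeRel (U.ι ≫ f) a b ((DCoh.restrictCx U).obj F) := by
  have hpc : ∀ m, DerSch.IsPseudoCoherentRel (U.ι ≫ f) m (DerivedCategory.Q.obj ((rC U.ι).obj F)) :=
    fun m => by
      haveI : LocallyOfFiniteType g := inferInstance
      refine (isPseudoCoherentRel_comp_iff (g := g) (pcBase_of_flat g)).1 ?_
      rw [Category.assoc]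
      exact hP.1 m
  have hge : (DerivedCategory.Q.obj ((rC U.ι).obj F)).IsGE a :=
    (DerivedCategory.isGE_iff _ a).2 fun i hi => isZero_HD_of_hasTorAmplitude _ _ hP.2 (Or.inl hi)
  have hle : (DerivedCategory.Q.obj ((rC U.ι).obj F)).IsLE b :=
    (DerivedCategory.isLE_iff _ b).2 fun i hi => isZero_HD_of_hasTorAmplitude _ _ hP.2 (Or.inr hi)
  refine exists_nhd_rel f F a b x U hxU (hpc _) hge hle ?_
  obtain ⟨V, Z, i, p, hxV, hVU, _, _, _, hw⟩ := exists_factor f x U hxU
  obtain ⟨k, _, hk⟩ := exists_lift U.ι V (by rw [Scheme.Opens.opensRange_ι]; exact hVU)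
  let FV := (rC V.ι).obj F
  let G := (DerSch.pushCx i).obj FV
  let v : (V : Scheme.{u}) := ⟨x, hxV⟩
  have hG := (iff_forall _ _).1 ((Groth.Agent.S7211.result i p (a - 1) FV).1.1
    (by rw [hw]; exact pcRel_res k f hk (hpc _)))
  have hS : DerSch.HasTorAmplitudeAt (p ≫ g) a b G (i v) := by
    refine (torAmpAt_push_iff i (p ≫ g) FV v a b).2 ?_
    rw [← Category.assoc, hw, Category.assoc]
    exact torAmpAt_res k (f ≫ g) hk v (hP.2 _)
  have hfibV : FibAmp g (i ≫ p) a b FV v := by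
    rw [hw]
    exact fibAmp_restrict g f V.ι F v hfib
  have hz := torAmpAt_of_fibre p g G (i v) (hG _)
    (isGE_of_iso' (DR.ExactPush.mapQ (Scheme.Modules.pushforward i) FV)
      (DR.ExactPush.isGE_map _ (isGE_res k hk hge)))
    (isLE_of_iso' (DR.ExactPush.mapQ (Scheme.Modules.pushforward i) FV)
      (DR.ExactPush.isLE_map _ (isLE_res k hk hle))) hS (fibAmp_push g i p FV v hfibV)
  have hV := (torAmpAt_push_iff i p FV v a b).1 hz
  rw [hw] at hV
  exact RelTor.torAmpAt_of_restrict f V F v hV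

/-- Relative perfect amplitude passes to a flat, locally finitely presented composite and to the fibres. -/
theorem comp_and_fibre (f : X ⟶ Y) [LocallyOfFiniteType f] (g : Y ⟶ S) [Flat g]
    [LocallyOfFinitePresentation g] (F : CochainComplex X.Modules ℤ) (a b : ℤ) (x : X) (U : X.Opens)
    (hxU : x ∈ U) (hP : DerSch.HasPerfAmplitudeRel (U.ι ≫ f) a b ((rC U.ι).obj F)) :
    DerSch.HasPerfAmplitudeRel (U.ι ≫ f ≫ g) a b ((rC U.ι).obj F) ∧ FibAmp g f a b F x := by
  refine ⟨⟨fun m => ?_, fun u => ?_⟩, ?_⟩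
  · haveI : LocallyOfFiniteType g := inferInstance
    rw [← Category.assoc]
    exact (isPseudoCoherentRel_comp_iff (g := g) (pcBase_of_flat g)).2 (hP.1 m)
  · rw [← Category.assoc]
    exact torAmpAt_comp_flat _ g _ u (hP.2 u)
  · haveI := DR.BaseChangeU.hasLBaseChange (Ideal.Quotient.mk (fibI g (f x)))
    exact DR.BaseChange.bdd_LBaseChange (Ideal.Quotient.mk (fibI g (f x))) (fun _ h => h)
      (fun M h => DR.BaseChange.ext_flat _ M h) (RelTor.torAmpAt_of_restrict f U F ⟨x, hxU⟩ (hP.2 _))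

end Groth.Agent.H56.AmpNhd
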