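import Groth.Agent.H56.AmpNhd.Ring
import Groth.Agent.H56.RelPC.RelTorFP
import Groth.Agent.H56.RelPC.Closed
import Groth.Agent.H19.FlatLocus.Scheme
import Groth.Agent.Lib.TensorMod.FPConv
import Groth.Agent.Lib.Modules.AffineSections

/-!
Perfect amplitude near a point, for a morphism which is flat and locally of finite presentation.
-/

set_option autoImplicit false
set_option linter.style.haveILetI false

universe u

open CategoryTheory CategoryTheory.Limits AlgebraicGeometry CategoryTheory.Pretriangulated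

attribute [local instance] HasDerivedCategory.standard

namespace Groth.Agent.H56.AmpNhd

open Groth.Agent.Lib Groth.Agent.Lib.DerivedOX Groth.Agent.Lib.Modules.StalkModule KFlatBaseChange
open Groth.Agent.Lib.BettiExact TorTensor TorPull
open Groth.Agent.Lib.Perfect.Basic Groth.Agent.Lib.Perfect.PseudoCoh Groth.Agent.Lib.Perfect.Ascent
open Groth.Agent.Lib.DR.Basic Groth.Agent.Lib.DR.FiniteComplex Groth.Agent.Lib.DR.PseudoCoherent
open RelPC

variable {U Z Y : Scheme.{u}}

theorem pcAt_inD_of_epi' {M N : Z.Modules} (q : M ⟶ N) [Epi q] {x : Z}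
    (h : PCAt 0 (DCoh.inD Z M) x) : PCAt 0 (DCoh.inD Z N) x := by
  obtain ⟨W, j, _, y, E, α, hy, hE, hα⟩ := h
  exact ⟨W, j, inferInstance, y, E, α ≫ (RD j).map ((DerivedCategory.singleFunctor _ 0).map q), hy, hE,
    hα.comp (good_restrict j (PCSingle.good_inD_map q))⟩

/-- Cokernels of maps of finite locally free modules are of finite presentation. -/
theorem isFP_cokernel {M N : Z.Modules} (φ : M ⟶ N) (hM : FlatMod.IsFinLocFree M)
    (hN : FlatMod.IsFinLocFree N) : CohB1.IsFP (cokernel φ) := by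
  refine (PCSingle.isPseudoCoherentD_negOne_iff _).1 ((iff_forall _ _).2 fun x => ?_)
  have h₁ : PCAt 0 (DCoh.inD Z (Abelian.image φ)) x := pcAt_inD_of_epi' (Abelian.factorThruImage φ)
    ((PCSingle.pcAt_inD_of_isFP (TensorMod.FPConv.isFP_of_isFinLocFree hM) x).mono' (by lia))
  have hS : (ShortComplex.mk (Abelian.image.ι φ) (cokernel.π φ) (kernel.condition _)).ShortExact :=
    { exact := ShortComplex.exact_of_f_is_kernel _ (kernelIsKernel (cokernel.π φ)) }
  exact pcAt₃ hS.singleTriangle_distinguished (m := -1) h₁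
    (PCSingle.pcAt_inD_of_isFP (TensorMod.FPConv.isFP_of_isFinLocFree hN) x) 

theorem isFP_opcycles {E : CochainComplex Z.Modules ℤ} (hE : DCoh.IsStrictlyPerfect E) (a : ℤ) :
    CohB1.IsFP (E.opcycles a) :=
  (SheafOfModules.isFinitePresentation Z.ringCatSheaf).prop_of_iso
    (IsColimit.coconePointUniqueUpToIso (cokernelIsCokernel _)
      (E.opcyclesIsCokernel (a - 1) a (by simp)))
    (isFP_cokernel (E.d (a - 1) a) (hE.2 _) (hE.2 _))

theorem isFlatOver_term (f : Z ⟶ Y) [Flat f] {E : CochainComplex Z.Modules ℤ}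
    (hE : DCoh.IsStrictlyPerfect E) (i : ℤ) : FlatMod.IsFlatOver f (E.X i) :=
  RelTor.isFlatOver_of_isFlat f (TensorMod.FPConv.isFlat_of_isFinLocFree (hE.2 i))

/-- An approximation near a point. -/
theorem exists_approx {G : CochainComplex Z.Modules ℤ} {a : ℤ} {z : Z}
    (h : PCAt (a - 1) (DerivedCategory.Q.obj G) z) :
    ∃ (U : Scheme.{u}) (j : U ⟶ Z) (_ : IsOpenImmersion j) (y : U) (E : CochainComplex U.Modules ℤ)
      (α : DerivedCategory.Q.obj E ⟶ DerivedCategory.Q.obj ((rC j).obj G)),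
      j y = z ∧ DCoh.IsStrictlyPerfect E ∧ ConeLE α (a - 2) := by
  obtain ⟨U, j, _, y, E, α, hy, hE, hα⟩ := h
  refine ⟨U, j, inferInstance, y, E, α ≫ (RDQ j G).hom, hy, hE, ?_⟩
  have h' := hα.comp (Good.of_isIso (a - 1) (RDQ j G).hom)
  exact (coneLE_iff _ _).2 ⟨fun i hi => h'.1 i (by lia), by
    rw [show a - 2 + 1 = a - 1 by lia]
    exact h'.2⟩

/-- The cokernel in degree `a` of an approximation of a complex of tor amplitude in `[a, b]` is flat. -/
theorem isFlatOverAt_opcycles (h : U ⟶ Y) [Flat h] {E H : CochainComplex U.Modules ℤ}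
    (hE : DCoh.IsStrictlyPerfect E) {a b : ℤ} (α : DerivedCategory.Q.obj E ⟶ DerivedCategory.Q.obj H)
    (hα : ConeLE α (a - 2)) (y : U) (hH : DerSch.HasTorAmplitudeAt h a b H y) :
    FlatMod.IsFlatOverAt h (E.opcycles a) y := by
  refine (RelTor.isFlatOverAt_iff_res h _ y).2 ?_
  let F := stalkModFunctor U y ⋙ resF (h.stalkMap y).hom
  haveI : PreservesFiniteColimits (stalkModFunctor U y) :=
    PreservesColimitsOfSize.preservesFiniteColimits _
  haveI : PreservesFiniteLimits F := comp_preservesFiniteLimits _ _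
  haveI : PreservesFiniteColimits F := comp_preservesFiniteColimits _ _
  let P := (resC (h.stalkMap y).hom).obj ((stC y).obj E)
  let Q := (resC (h.stalkMap y).hom).obj ((stC y).obj H)
  let r := resF (h.stalkMap y).hom
  let q₁ := (DR.ExactPush.mapQ (stalkModFunctor U y) E).symm
  let q₂ := DR.ExactPush.mapQ (stalkModFunctor U y) H
  let r₁ := (DR.ExactPush.mapQ r ((stC y).obj E)).symm
  let r₂ := DR.ExactPush.mapQ r ((stC y).obj H)
  let f : DerivedCategory.Q.obj P ⟶ DerivedCategory.Q.obj Q :=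
    r₁.hom ≫ r.mapDerivedCategory.map (q₁.hom ≫ (stalkModFunctor U y).mapDerivedCategory.map α ≫ q₂.hom) ≫
      r₂.hom
  have hf : ConeLE f (a - 2) := ConeLE.iso_comp ((DR.ExactPush.coneLE_map r
    (ConeLE.iso_comp ((DR.ExactPush.coneLE_map (stalkModFunctor U y) hα).comp_iso q₂) q₁)).comp_iso r₂) r₁
  obtain ⟨l, u, hlu⟩ := hE.1
  let op : P.opcycles a ≅ F.obj (E.opcycles a) := (E.sc a).mapOpcyclesIso F
  exact flat_of_iso (DR.TorAmp.opcyclesIso P a ≪≫ op)
    (flat_coker_of_coneLE P f (c := u)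
      (fun i hi => (resF _).map_isZero ((stalkModFunctor U y).map_isZero (hlu i (Or.inr hi))))
      (fun i => (RelTor.isFlatOverAt_iff_res h _ y).1 (isFlatOver_term h hE i y)) hf
      ((torAmpAt_iff h y H a b).1 hH))

/-- Near a point at which the cokernel is flat, the truncation has perfect amplitude. -/
theorem exists_nhd_of_flat (h : U ⟶ Y) [Flat h] [LocallyOfFinitePresentation h]
    {E : CochainComplex U.Modules ℤ} (hE : DCoh.IsStrictlyPerfect E) (a : ℤ) {y : U}
    (hy : FlatMod.IsFlatOverAt h (E.opcycles a) y) :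
    ∃ (W : U.Opens) (c : ℤ), y ∈ W ∧
      (∀ m : ℤ, DCoh.IsPseudoCoherentD m (DCoh.toD (W : Scheme.{u}) ((rC W.ι).obj (E.truncGE a)))) ∧
      DerSch.HasTorAmplitude (W.ι ≫ h) a c ((rC W.ι).obj (E.truncGE a)) := by
  obtain ⟨l, u, hlu⟩ := hE.1
  haveI := (isFP_opcycles hE a : SheafOfModules.IsFinitePresentation (R := U.ringCatSheaf) (E.opcycles a))
  haveI : (E.opcycles a).IsQuasicoherent := by
    haveI : ∀ i, (E.X i).IsQuasicoherent := fun i => Modules.AffineSections.isQCoh_of_isFinLocFree (hE.2 i)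
    exact (SheafOfModules.isQuasicoherent U.ringCatSheaf).prop_of_iso
      (IsColimit.coconePointUniqueUpToIso (cokernelIsCokernel _)
        (E.opcyclesIsCokernel (a - 1) a (by simp))) (QCoh.Closure.isQCoh_cokernel _)
  let W : U.Opens := ⟨{x | FlatMod.IsFlatOverAt h (E.opcycles a) x},
    H19.FlatLocus.Scheme.isOpen_isFlatOverAt h (E.opcycles a)⟩
  let T := (rC W.ι).obj (E.truncGE a)
  let R := Scheme.Modules.restrictFunctor W.ι
  have hop : FlatMod.IsFlatOver (W.ι ≫ h) (R.obj (E.opcycles a)) := fun w =>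
    flat_of_iso ((TorRestrict.stalkOverRestrictIso h (W.ι ≫ h) W.ι w (RingHom.id _) (by
      refine Eq.trans ?_ (RingHom.comp_id _).symm
      exact congrArg (fun t => CommRingCat.Hom.hom t) (Scheme.Hom.stalkMap_comp W.ι h w))).app
        (E.opcycles a)).symm w.2
  have hTb : ∀ i, max a u < i → IsZero (T.X i) := fun i hi =>
    R.map_isZero ((hlu i (Or.inr (by lia))).of_iso (E.truncGEXIso a i (by lia)))
  have hT : ∀ i, CohB1.IsFP (T.X i) ∧ FlatMod.IsFlatOver (W.ι ≫ h) (T.X i) := fun i => by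
    rcases lt_trichotomy i a with hi | hi | hi
    · have hz : IsZero (T.X i) := R.map_isZero ((E.truncGE a).isZero_of_isStrictlyGE a i hi)
      have hlf := Perfect.Stupid.isFinLocFree_isZero hz
      exact ⟨TensorMod.FPConv.isFP_of_isFinLocFree hlf,
        RelTor.isFlatOver_of_isFlat _ (TensorMod.FPConv.isFlat_of_isFinLocFree hlf)⟩
    · subst hi
      let e : T.X i ≅ R.obj (E.opcycles i) := R.mapIso (E.truncGEXIsoOpcycles i)
      exact ⟨(SheafOfModules.isFinitePresentation (W : Scheme.{u}).ringCatSheaf).prop_of_iso e.symm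
          (RelTorFP.isFP_restrict W.ι (isFP_opcycles hE i)),
        H52.Ass.FlatTensorProd.isFlatOver_of_iso e.symm hop⟩
    · let e : T.X i ≅ R.obj (E.X i) := R.mapIso (E.truncGEXIso a i hi)
      have hlf := TensorMod.LocFree.of_iso e.symm (TensorMod.LocFree.isFinLocFree_restrict W.ι (hE.2 i))
      exact ⟨TensorMod.FPConv.isFP_of_isFinLocFree hlf,
        RelTor.isFlatOver_of_isFlat _ (TensorMod.FPConv.isFlat_of_isFinLocFree hlf)⟩
  refine ⟨W, max a u, hy, RelTorFP.pc_of_terms (W.ι ≫ h) T _ hTb hT,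
    hasTorAmplitude_of_flat_terms _ T a _ (fun i hi => ?_) fun i => (hT i).2⟩
  rcases hi with hi | hi
  · exact R.map_isZero ((E.truncGE a).isZero_of_isStrictlyGE a i hi)
  · exact hTb i hi

end Groth.Agent.H56.AmpNhd
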