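import Groth.Agent.H56.AmpNhd.Local
import Groth.Agent.H56.RelPC.Rules
import Groth.Agent.H56.RelPC.Transport
import Groth.Agent.S7211

/-!
Perfect amplitude relative to a morphism from the condition at one point.
-/

set_option autoImplicit false
set_option linter.style.haveILetI false

universe u

open CategoryTheory CategoryTheory.Limits AlgebraicGeometry CategoryTheory.Pretriangulated

attribute [local instance] HasDerivedCategory.standard

namespace Groth.Agent.H56.AmpNhd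

open Groth.Agent.Lib Groth.Agent.Lib.DerivedOX Groth.Agent.Lib.Modules.StalkModule KFlatBaseChange
open Groth.Agent.Lib.BettiExact TorTensor TorPull
open Groth.Agent.Lib.Perfect.Basic Groth.Agent.Lib.Perfect.PseudoCoh
open Groth.Agent.Lib.DR.Basic Groth.Agent.Lib.DR.FiniteComplex Groth.Agent.Lib.DR.PseudoCoherent
open RelPC

variable {X U V Y : Scheme.{u}}

section Transfer

variable {j : V ⟶ X} [IsOpenImmersion j] {j' : U ⟶ X} [IsOpenImmersion j'] (k : U ⟶ V)
  [IsOpenImmersion k]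

/-- Restriction in two steps. -/
noncomputable def resIso (hk : k ≫ j = j') (F : CochainComplex X.Modules ℤ) :
    (rC k).obj ((rC j).obj F) ≅ (rC j').obj F :=
  (rCComp k j).symm.app F ≪≫ (rCCongr hk).app F

theorem pcRel_res (f : X ⟶ Y) (hk : k ≫ j = j') {F : CochainComplex X.Modules ℤ} {m : ℤ}
    (h : DerSch.IsPseudoCoherentRel (j ≫ f) m (DerivedCategory.Q.obj ((rC j).obj F))) :
    DerSch.IsPseudoCoherentRel (j' ≫ f) m (DerivedCategory.Q.obj ((rC j').obj F)) := by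
  have h' := isPseudoCoherentRel_of_iso (RDQ k _ ≪≫ DerivedCategory.Q.mapIso (resIso k hk F))
    (isPseudoCoherentRel_restrict h k)
  rwa [← Category.assoc, hk] at h'

theorem torAmpAt_res (f : X ⟶ Y) (hk : k ≫ j = j') {F : CochainComplex X.Modules ℤ} {a b : ℤ} (u : U)
    (h : DerSch.HasTorAmplitudeAt (j ≫ f) a b ((rC j).obj F) (k u)) :
    DerSch.HasTorAmplitudeAt (j' ≫ f) a b ((rC j').obj F) u :=
  torAmpAt_of_iso _ u (DerivedCategory.Q.mapIso (resIso k hk F))
    (TorRestrict.torAmpAt_restrict (j ≫ f) (j' ≫ f) k (𝟙 Y)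
      (by rw [Category.comp_id, ← Category.assoc, hk]) _ u h)

theorem isGE_res (hk : k ≫ j = j') {F : CochainComplex X.Modules ℤ} {a : ℤ}
    (h : (DerivedCategory.Q.obj ((rC j).obj F)).IsGE a) : (DerivedCategory.Q.obj ((rC j').obj F)).IsGE a :=
  isGE_of_iso' (RDQ k _ ≪≫ DerivedCategory.Q.mapIso (resIso k hk F))
    (DR.ExactPush.isGE_map (Scheme.Modules.restrictFunctor k) h)

theorem isLE_res (hk : k ≫ j = j') {F : CochainComplex X.Modules ℤ} {a : ℤ}
    (h : (DerivedCategory.Q.obj ((rC j).obj F)).IsLE a) : (DerivedCategory.Q.obj ((rC j').obj F)).IsLE a :=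
  isLE_of_iso' (RDQ k _ ≪≫ DerivedCategory.Q.mapIso (resIso k hk F))
    (DR.ExactPush.isLE_map (Scheme.Modules.restrictFunctor k) h)

end Transfer

/-- The lift to a larger open subscheme. -/
theorem exists_lift (j : V ⟶ X) [IsOpenImmersion j] (W : X.Opens) (h : W ≤ j.opensRange) :
    ∃ (k : (W : Scheme.{u}) ⟶ V) (_ : IsOpenImmersion k), k ≫ j = W.ι := by
  have hr : Set.range W.ι ⊆ Set.range j := by
    rw [Scheme.Opens.range_ι]
    exact h
  haveI : IsOpenImmersion (IsOpenImmersion.lift j W.ι hr ≫ j) := by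
    rw [IsOpenImmersion.lift_fac]
    infer_instance
  exact ⟨IsOpenImmersion.lift j W.ι hr, IsOpenImmersion.of_comp _ j, IsOpenImmersion.lift_fac _ _ _⟩

/-- Relative perfect amplitude from a pseudo-coherent approximation and the condition at one point. -/
theorem exists_nhd_rel (f : X ⟶ Y) [LocallyOfFiniteType f] (F : CochainComplex X.Modules ℤ) (a b : ℤ)
    (x : X) (U : X.Opens) (hxU : x ∈ U)
    (hpc : DerSch.IsPseudoCoherentRel (U.ι ≫ f) (a - 1) (DerivedCategory.Q.obj ((rC U.ι).obj F)))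
    (hge : (DerivedCategory.Q.obj ((rC U.ι).obj F)).IsGE a)
    (hle : (DerivedCategory.Q.obj ((rC U.ι).obj F)).IsLE b)
    (hx : DerSch.HasTorAmplitudeAt f a b F x) :
    ∃ U : X.Opens, x ∈ U ∧ DerSch.HasPerfAmplitudeRel (U.ι ≫ f) a b ((DCoh.restrictCx U).obj F) := by
  obtain ⟨V, Z, i, g, hxV, hVU, _, _, _, hw⟩ := exists_factor f x U hxU
  obtain ⟨k, _, hk⟩ := exists_lift U.ι V (by rw [Scheme.Opens.opensRange_ι]; exact hVU)
  let FV := (rC V.ι).obj F
  let G := (DerSch.pushCx i).obj FV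
  have hG := (iff_forall _ _).1 ((Groth.Agent.S7211.result i g (a - 1) FV).1.1
    (by rw [hw]; exact pcRel_res k f hk hpc))
  let v : (V : Scheme.{u}) := ⟨x, hxV⟩
  have hz : DerSch.HasTorAmplitudeAt g a b G (i v) := by
    refine (torAmpAt_push_iff i g FV v a b).2 ?_
    rw [hw]
    exact TorRestrict.torAmpAt_restrict f (V.ι ≫ f) V.ι (𝟙 Y) (Category.comp_id _).symm F v hx
  obtain ⟨W, hzW, hWpc, hWamp⟩ := exists_nhd g G (hG (i v))
    (isGE_of_iso' (DR.ExactPush.mapQ (Scheme.Modules.pushforward i) FV)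
      (DR.ExactPush.isGE_map _ (isGE_res k hk hge)))
    (isLE_of_iso' (DR.ExactPush.mapQ (Scheme.Modules.pushforward i) FV)
      (DR.ExactPush.isLE_map _ (isLE_res k hk hle))) hz
  let V' := i ⁻¹ᵁ W
  let F' := (rC V'.ι).obj FV
  have hw' : (i ∣_ W) ≫ (W.ι ≫ g) = V'.ι ≫ V.ι ≫ f := by
    rw [morphismRestrict_ι_assoc, hw]
  let eG : (rC W.ι).obj G ≅ (DerSch.pushCx (i ∣_ W)).obj F' :=
    (NatIso.mapHomologicalComplex (pushRestrIso i W) (ComplexShape.up ℤ)).app FV
  have hF'pc : ∀ m, DerSch.IsPseudoCoherentRel ((V'.ι ≫ V.ι) ≫ f) m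
      (DerivedCategory.Q.obj ((rC (V'.ι ≫ V.ι)).obj F)) := fun m => by
    refine isPseudoCoherentRel_of_iso (DerivedCategory.Q.mapIso ((rCComp V'.ι V.ι).symm.app F)) ?_
    rw [Category.assoc, ← hw']
    refine (Groth.Agent.S7211.result (i ∣_ W) (W.ι ≫ g) m F').1.2 ((iff_forall _ _).2 fun w => ?_)
    exact (PCAt.restrict W.ι w (hWpc m _ w.2)).of_iso
      (RDQ W.ι G ≪≫ DerivedCategory.Q.mapIso eG)
  obtain ⟨k', _, hk'⟩ := exists_lift (V'.ι ≫ V.ι) ((V'.ι ≫ V.ι).opensRange) le_rfl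
  refine ⟨(V'.ι ≫ V.ι).opensRange, ⟨⟨v, hzW⟩, rfl⟩, fun m => pcRel_res k' f hk' (hF'pc m), fun u => ?_⟩
  refine torAmpAt_res k' f hk' u ?_
  refine torAmpAt_of_iso _ _ (DerivedCategory.Q.mapIso ((rCComp V'.ι V.ι).symm.app F)) ?_
  refine TorRestrict.torAmpAt_restrict (V.ι ≫ f) _ V'.ι (𝟙 Y) (by simp) FV _ ?_
  rw [← hw]
  exact (torAmpAt_push_iff i g FV _ a b).1 (hWamp _ (k' u).2)

/-- Tor amplitude everywhere bounds the cohomology. -/
theorem exactAt_of_hasTorAmplitude (f : X ⟶ Y) (F : CochainComplex X.Modules ℤ) {a b : ℤ}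
    (h : DerSch.HasTorAmplitude f a b F) {i : ℤ} (hi : i < a ∨ b < i) : F.ExactAt i :=
  (DerivedOX.Amplitude.exactAt_iff_stalk F i).2 fun z =>
    (TorTensor.exactAt_resC_iff (f.stalkMap z).hom _ i).1
      (TorTensor.exactAt_of_bdd ((torAmpAt_iff f z F a b).1 (h z)) i hi)

theorem isZero_HD_of_hasTorAmplitude (f : X ⟶ Y) (F : CochainComplex X.Modules ℤ) {a b : ℤ}
    (h : DerSch.HasTorAmplitude f a b F) {i : ℤ} (hi : i < a ∨ b < i) :
    IsZero (DCoh.HD (DCoh.toD X F) i) :=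
  ((HomologicalComplex.exactAt_iff_isZero_homology _ _).1 (exactAt_of_hasTorAmplitude f F h hi)).of_iso
    (homologyQIso F i)

end Groth.Agent.H56.AmpNhd
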