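import Groth.Agent.H56.RelPC.RelTorTri
import Groth.Agent.H56.RelPC.RelTorPerfRing

/-!
Cokernels in approximations of complexes of bounded tor amplitude.
-/

set_option autoImplicit false
set_option linter.style.haveILetI false

universe v w u

open CategoryTheory CategoryTheory.Limits CategoryTheory.Pretriangulated

attribute [local instance] HasDerivedCategory.standard

namespace Groth.Agent.H56.AmpNhd

open Groth.Agent.Lib.DR
open Groth.Agent.Lib.DR.Basic Groth.Agent.Lib.DR.FiniteComplex Groth.Agent.Lib.DR.PseudoCoherent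
open Groth.Agent.Lib.DR.Representative Groth.Agent.Lib.DR.BaseChange Groth.Agent.Lib.DR.TorAmp

variable {A : Type u} [CommRing A]

/-- A flat representative with the same cokernel in degree `a`. -/
theorem exists_cone (P : DRing.Cx A) {K : Dual.D A} (f : DerivedCategory.Q.obj P ⟶ K)
    {a c : ℤ} (hP : ∀ i, c < i → IsZero (P.X i)) (hPf : ∀ i, flat A (P.X i))
    (hf : ConeLE f (a - 2)) :
    ∃ C : DRing.Cx A, (∀ i, flat A (C.X i)) ∧ (∀ i, max c (a - 1) < i → IsZero (C.X i)) ∧
      Nonempty (DerivedCategory.Q.obj C ≅ K) ∧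
      Nonempty (ModuleCat.of A ((P.X a) ⧸ LinearMap.range (P.d (a - 1) a).hom) ≅
        ModuleCat.of A ((C.X a) ⧸ LinearMap.range (C.d (a - 1) a).hom)) := by
  obtain ⟨Z, g, k, hd, hZ⟩ := hf
  let T := (Triangle.mk f g k).invRotate
  have hT : T ∈ distTriang _ := inv_rot_of_distTriang _ hd
  have hT1 : T.obj₁.IsLE (a - 1) :=
    DerivedCategory.TStructure.t.isLE_shift Z (a - 2) (-1) (a - 1) (by lia)
  obtain ⟨G, hG, hGp, ⟨e⟩⟩ := ba_free hT1
  have := isKProjective_of_bounds projective_of_free' hG hGp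
  obtain ⟨φ, hφ⟩ := exists_Q_map_eq (e.hom ≫ T.mor₁)
  obtain ⟨iso, -⟩ := exists_iso_of_arrow_iso _ _
    (DerivedCategory.mappingCone_triangle_distinguished φ) hT
    (Arrow.isoMk e (Iso.refl _) (hφ.symm.trans (Category.comp_id _).symm))
  let C := CochainComplex.mappingCone φ
  let eX : ∀ i, C.X i ≅ G.X (i + 1) ⊞ P.X i := fun i =>
    HomologicalComplex.homotopyCofiber.XIsoBiprod φ i (i + 1) rfl
  let ι : P ⟶ C := CochainComplex.mappingCone.inr φ
  have hι : ∀ i, a - 1 ≤ i → IsIso (ι.f i) := fun i hi => by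
    refine ⟨(CochainComplex.mappingCone.snd φ).v i i (add_zero i),
      CochainComplex.mappingCone.inr_f_snd_v φ i, ?_⟩
    have hzero : (CochainComplex.mappingCone.fst φ).1.v i (i + 1) rfl = 0 := (hG _ (by lia)).eq_of_tgt _ _
    have hid := CochainComplex.mappingCone.id_X φ i (i + 1) rfl
    rw [hzero, zero_comp, zero_add] at hid
    exact hid
  haveI := hι (a - 1) le_rfl
  haveI := hι a (by lia)
  refine ⟨C, fun i => good_flat.iso (eX i).symm (good_flat.biprod (flat_of_free _ (hGp (i + 1))) (hPf i)),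
    fun i hi => ?_, ⟨Triangle.π₃.mapIso iso⟩,
    ⟨(ModuleCat.cokernelIsoRangeQuotient (P.d (a - 1) a)).symm ≪≫
      cokernel.mapIso (P.d (a - 1) a) (C.d (a - 1) a) (asIso (ι.f (a - 1))) (asIso (ι.f a))
        (ι.comm _ _).symm ≪≫
      ModuleCat.cokernelIsoRangeQuotient (C.d (a - 1) a)⟩⟩
  refine IsZero.of_iso ?_ (eX i)
  rw [biprod_isZero_iff]
  exact ⟨hG _ (by lia), hP _ (by lia)⟩

/-- The cokernel in degree `a` of an approximation in degrees `≥ a` of a complex of tor amplitude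
in `[a, b]` is flat. -/
theorem flat_coker_of_coneLE (P : DRing.Cx A) {K : Dual.D A} (f : DerivedCategory.Q.obj P ⟶ K)
    {a b c : ℤ} (hP : ∀ i, c < i → IsZero (P.X i)) (hPf : ∀ i, flat A (P.X i))
    (hf : ConeLE f (a - 2)) (hK : Bdd (flat A) a b K) :
    Module.Flat A ((P.X a) ⧸ LinearMap.range (P.d (a - 1) a).hom) := by
  obtain ⟨C, hfl, hz, ⟨eC⟩, ⟨e'⟩⟩ := exists_cone P f hP hPf hf
  have hflat := flat_coker C hz hfl (hK.of_iso eC.symm)
  exact Module.Flat.of_linearEquiv e'.toLinearEquiv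

/-- The cokernel in degree `a` is flat modulo an ideal when the derived reduction has tor amplitude
in `[a, b]`. -/
theorem flat_quot_coker_of_coneLE (P : DRing.Cx A) {K : Dual.D A} (f : DerivedCategory.Q.obj P ⟶ K)
    {a b c : ℤ} (hP : ∀ i, c < i → IsZero (P.X i)) (hPf : ∀ i, flat A (P.X i))
    (hf : ConeLE f (a - 2)) (I : Ideal A) [DRing.HasLBaseChange (Ideal.Quotient.mk I)]
    (hK : Bdd (flat (A ⧸ I)) a b ((DRing.LBaseChange (Ideal.Quotient.mk I)).obj K)) :
    Module.Flat (A ⧸ I) (((P.X a) ⧸ LinearMap.range (P.d (a - 1) a).hom) ⧸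
      I • (⊤ : Submodule A ((P.X a) ⧸ LinearMap.range (P.d (a - 1) a).hom))) := by
  obtain ⟨C, hfl, hz, ⟨eC⟩, ⟨e'⟩⟩ := exists_cone P f hP hPf hf
  let Φ := ModuleCat.extendScalars.{u, u, u} (Ideal.Quotient.mk I)
  haveI : PreservesColimitsOfSize.{0, 0} Φ :=
    (ModuleCat.extendRestrictScalarsAdj.{u} (Ideal.Quotient.mk I)).leftAdjoint_preservesColimits
  haveI : PreservesFiniteColimits Φ := PreservesColimitsOfSize.preservesFiniteColimits _
  let P' := (ext (Ideal.Quotient.mk I)).obj C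
  let op : P'.opcycles a ≅ Φ.obj (C.opcycles a) :=
    IsColimit.coconePointUniqueUpToIso (P'.opcyclesIsCokernel (a - 1) a (by simp))
        (cokernelIsCokernel (Φ.map (C.d (a - 1) a))) ≪≫
      (PreservesCokernel.iso Φ (C.d (a - 1) a)).symm ≪≫
      Φ.mapIso (IsColimit.coconePointUniqueUpToIso (cokernelIsCokernel (C.d (a - 1) a))
        (C.opcyclesIsCokernel (a - 1) a (by simp)))
  refine RelPC.RelTorPerfRing.flat_quot_of_ext I (ModuleCat.of A _) ?_
  exact good_flat.iso (opcyclesIso P' a ≪≫ op ≪≫ Φ.mapIso ((opcyclesIso C a).symm ≪≫ e'.symm))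
    (flat_coker P' (fun i hi => Φ.map_isZero (hz i hi)) (fun i => ext_flat _ _ (hfl i))
      (hK.of_iso ((DRing.LBaseChange (Ideal.Quotient.mk I)).mapIso eC.symm ≪≫
        bcFlat (Ideal.Quotient.mk I) C _ hz hfl)))

section Trunc

variable {C : Type u} [Category.{v} C] [Abelian C] [HasDerivedCategory.{w} C]

/-- An object without cohomology below `a` is computed by the truncation of any approximation. -/
theorem exists_iso_truncGE {E : CochainComplex C ℤ} {K : DerivedCategory C}
    (α : DerivedCategory.Q.obj E ⟶ K) (a : ℤ)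
    (h : ∀ i, a ≤ i → IsIso ((DerivedCategory.homologyFunctor C i).map α)) (hK : K.IsGE a) :
    Nonempty (DerivedCategory.Q.obj (E.truncGE a) ≅ K) := by
  let π := DerivedCategory.Q.map (E.πTruncGE a)
  have hge : (DerivedCategory.Q.obj (E.truncGE a)).IsGE a :=
    isGE_Q_of_isZero _ a fun i hi => (E.truncGE a).isZero_of_isStrictlyGE a i hi
  have hπ : ∀ i, a ≤ i → IsIso ((DerivedCategory.homologyFunctor C i).map π) := fun i hi => by
    obtain ⟨k, hk⟩ : ∃ k : ℕ, a + k = i := ⟨(i - a).toNat, by lia⟩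
    haveI : QuasiIsoAt (E.πTruncGE a) i :=
      HomologicalComplex.quasiIsoAt_πTruncGE E (e := ComplexShape.embeddingUpIntGE a) (j := k) hk
    exact (NatIso.isIso_map_iff (DerivedCategory.homologyFunctorFactors C i) _).2
      ((quasiIsoAt_iff_isIso_homologyMap _ i).1 ‹_›)
  have hcone : ConeLE π (a - 2) := (coneLE_iff π _).2
    ⟨fun i hi => if h' : a ≤ i then hπ i h' else absurd hi (by lia),
      ⟨fun g g' _ => (DerivedCategory.isZero_of_isGE _ a _ (by lia)).eq_of_src g g'⟩⟩
  obtain ⟨Z, g, k, hd, hZ⟩ := hcone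
  let T := (Triangle.mk π g k).invRotate
  have hT : T ∈ distTriang _ := inv_rot_of_distTriang _ hd
  have hT1 : T.obj₁.IsLE (a - 1) :=
    DerivedCategory.TStructure.t.isLE_shift Z (a - 2) (-1) (a - 1) (by lia)
  obtain ⟨β, hβ⟩ : ∃ β : DerivedCategory.Q.obj (E.truncGE a) ⟶ K, α = π ≫ β :=
    Triangle.yoneda_exact₂ T hT α (hom_eq_zero_of_isLE_of_isGE _ (by lia) hT1 hK)
  haveI : IsIso β := (DerivedCategory.isIso_iff C β).2 fun i => by
    by_cases hi : a ≤ i
    · haveI := hπ i hi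
      haveI := h i hi
      exact IsIso.of_isIso_fac_left (f := (DerivedCategory.homologyFunctor C i).map π)
        (h := (DerivedCategory.homologyFunctor C i).map α) (by rw [← Functor.map_comp, ← hβ])
    · exact ⟨⟨0, (DerivedCategory.isZero_of_isGE _ a i (by lia)).eq_of_src _ _,
        (DerivedCategory.isZero_of_isGE _ a i (by lia)).eq_of_src _ _⟩⟩
  exact ⟨asIso β⟩

end Trunc

end Groth.Agent.H56.AmpNhd
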